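import Cfsg.Agent.H865.L5.Base
import Cfsg.Agent.BpExc.RowsUntw
import Cfsg.Agent.H83.RootCount

/-!
# S5923, E4 (helper969): the fixed space of an involution of `E₈(3)` does not have dimension 124

`inv_ne`.
-/

set_option autoImplicit false
set_option linter.unusedSectionVars false

namespace Cfsg.Agent.H969.L5

open CoxeterSystem Subgroup Cfsg Cfsg.Lie Cfsg.Lie.ChevalleyDatum
open Cfsg.Agent.ChevalleyStructure Cfsg.Agent.ChevalleyStructure.Elts Cfsg.Agent.ChevalleyStructure.CoxeterGeom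
  Cfsg.Agent.ChevalleyStructure.CoxeterGeomTypes Cfsg.Agent.ChevalleyStructure.NPerm
open Cfsg.Agent.Tits.Roots Cfsg.Agent.Tits.Core Cfsg.Agent.Nodes Cfsg.Agent.Nodes.SubComb Cfsg.Agent.Nodes.Reps
  Cfsg.Agent.Nodes.BNOf Cfsg.Agent.Nodes.RGDChev Cfsg.Agent.Nodes.Bruhat Cfsg.Agent.Nodes.Coroot
open Cfsg.Agent.KFacts.RgdField Cfsg.Agent.KFacts.RgdChevCoord Cfsg.Agent.BpExc.TorCent Cfsg.Agent.BpExc.TorChev
open Cfsg.Agent.GpExc.Field Cfsg.Agent.BpExc.Tow Cfsg.Agent.BpExc.TowChev Cfsg.Agent.BpExc.Fr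
  Cfsg.Agent.BpExc.LangFr Cfsg.Agent.BpExc.FamField Cfsg.Agent.BpExc.FamInst Cfsg.Agent.H129.TorusChar
  Cfsg.Agent.H795.LangT Cfsg.Agent.BpExc.FamExt Cfsg.Agent.BpExc.FamUntw Cfsg.Agent.H378.TorDual Cfsg.Agent.H378.TorChar
  Cfsg.Agent.H378.TorFin Cfsg.Agent.H378.RankOne Cfsg.Agent.H378.RootTor Cfsg.Agent.H865.EE Cfsg.Agent.H865.L5

attribute [local irreducible] w8

/-- the rank of a matrix is invariant under field extensions -/
theorem rank_map {F K n : Type*} [Field F] [Field K] [Fintype n] [DecidableEq n] (φ : F →+* K) (M : Matrix n n F) :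
    (M.map φ).rank = M.rank := by
  classical
  obtain ⟨V, U, e, hV, hU, h⟩ := Matrix.exists_rank_normal_form M
  have hmap : ∀ A B : Matrix n n F, (A * B).map φ = A.map φ * B.map φ := fun A B => Matrix.map_mul
  have hunit : ∀ A : Matrix n n F, IsUnit A → IsUnit (A.map φ).det := fun A hA => by
    have h1 : (A.map φ).det = φ A.det := (RingHom.map_det φ A).symm
    rw [h1]
    exact ((Matrix.isUnit_iff_isUnit_det _).1 hA).map φ
  have h1 := congrArg (fun A : Matrix n n F => (A.map φ).rank) h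
  simp only [hmap] at h1
  rw [Matrix.rank_mul_eq_left_of_isUnit_det _ _ (hunit U hU), Matrix.rank_mul_eq_right_of_isUnit_det _ _ (hunit V hV)] at h1
  rw [h1, ← Matrix.submatrix_map, Matrix.rank_submatrix, Matrix.fromBlocks_map]
  have h2 : (Matrix.fromBlocks ((1 : Matrix (Fin M.rank) (Fin M.rank) F).map φ) ((0 : Matrix (Fin M.rank) (Fin (Fintype.card n - M.rank)) F).map φ)
      ((0 : Matrix (Fin (Fintype.card n - M.rank)) (Fin M.rank) F).map φ) ((0 : Matrix (Fin (Fintype.card n - M.rank)) (Fin (Fintype.card n - M.rank)) F).map φ)) =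
      Matrix.diagonal (Sum.elim (fun _ => (1 : K)) (fun _ => 0)) := by
    ext i j
    rcases i with i | i <;> rcases j with j | j
    · by_cases hij : i = j
      · subst hij; simp
      · simp [hij]
    · simp
    · simp
    · by_cases hij : i = j
      · subst hij; simp
      · simp [hij]
  rw [h2, Matrix.rank_diagonal]
  have h3 : Fintype.card {i : Fin M.rank ⊕ Fin (Fintype.card n - M.rank) //
      (Sum.elim (fun _ => (1 : K)) (fun _ => 0)) i ≠ 0} = Fintype.card (Fin M.rank) := by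
    symm
    refine Fintype.card_congr (Equiv.ofBijective (fun i => ⟨Sum.inl i, one_ne_zero⟩) ⟨?_, ?_⟩)
    · intro a b hab
      exact Sum.inl_injective (congrArg Subtype.val hab)
    · rintro ⟨i | i, hi⟩
      · exact ⟨i, rfl⟩
      · exact absurd rfl hi
  rw [h3, Fintype.card_fin]

/-! ### Parities -/

/-- the roots modulo 2 -/
def ML : List ℕ := [
  82, 210, 146, 178, 162, 170, 174, 168, 172, 164, 180, 148, 212, 84, 175, 173, 165, 181, 149, 213, 85, 161,
  177, 145, 209, 81, 185, 153, 217, 89, 137, 201, 73, 233, 105, 41, 187, 155, 219, 91, 139, 203, 75, 235, 107,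
  43, 131, 195, 67, 227, 99, 35, 243, 115, 51, 19, 135, 199, 71, 231, 103, 39, 247, 119, 55, 23, 255, 127, 63,
  31, 15, 253, 125, 61, 29, 13, 5, 1, 134, 198, 70, 230, 102, 38, 246, 118, 54, 22, 254, 126, 62, 30, 14, 250,
  122, 58, 26, 10, 2, 252, 124, 60, 28, 12, 4, 248, 120, 56, 24, 8, 240, 112, 48, 16, 224, 96, 32, 192, 64, 128,
  128, 64, 192, 32, 96, 224, 16, 48, 112, 240, 8, 24, 56, 120, 248, 4, 12, 28, 60, 124, 252, 2, 10, 26, 58, 122,
  250, 14, 30, 62, 126, 254, 22, 54, 118, 246, 38, 102, 230, 70, 198, 134, 1, 5, 13, 29, 61, 125, 253, 15, 31,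
  63, 127, 255, 23, 55, 119, 247, 39, 103, 231, 71, 199, 135, 19, 51, 115, 243, 35, 99, 227, 67, 195, 131, 43,
  107, 235, 75, 203, 139, 91, 219, 155, 187, 41, 105, 233, 73, 201, 137, 89, 217, 153, 185, 81, 209, 145, 177,
  161, 85, 213, 149, 181, 165, 173, 175, 84, 212, 148, 180, 164, 172, 168, 174, 170, 162, 178, 146, 210, 82]

/-- parity table -/
def PT : ℕ := 47758914269546354982683078068829456704164423862093743397580034411621752859030

/-- a vector modulo 2 as a number -/
def mk2 (l : List ℤ) : ℕ := ((List.range 8).map (fun i => (l.getD i 0 % 2).toNat * 2 ^ i)).sum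

theorem ML_eq : RL.map mk2 = ML := by decide +kernel

/-- parity of the pairing of two masks -/
def pq (v m : ℕ) : Bool := PT.testBit (m &&& v)

theorem count_ne : ∀ v < 256, ML.countP (pq v) ≠ 124 := by decide +kernel

theorem PT_bit : ∀ x < 256, PT.testBit x = ((List.range 8).map (fun i => x.testBit i)).foldl xor false := by
  decide +kernel

/-! ### Characters of order 2 of the root lattice -/

section Sgn

variable {k : Type} [Field k] [CharP k 3]

/-- signs -/
def sgn (k : Type) [Field k] (b : Bool) : k := if b then -1 else 1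

theorem sgn_ne_one (b : Bool) : sgn k b ≠ 1 ↔ b = true := by
  have h : (-1 : k) ≠ 1 := by
    intro h
    have h2 : ((2 : ℕ) : k) = 0 := by
      have : (1 : k) + 1 = 0 := by nth_rewrite 1 [← h]; ring
      push_cast
      rw [← one_add_one_eq_two, this]
    rw [CharP.cast_eq_zero_iff k 3] at h2
    omega
  cases b
  · simp [sgn]
  · simp [sgn, h]

theorem sgn_xor (a b : Bool) : sgn k (a ^^ b) = sgn k a * sgn k b := by
  cases a <;> cases b <;> simp [sgn]

theorem foldl_sgn (l : List Bool) (a : Bool) : sgn k (l.foldl xor a) = sgn k a * (l.map (sgn k)).prod := by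
  induction l generalizing a with
  | nil => simp
  | cons b l ih => rw [List.foldl_cons, ih, sgn_xor, List.map_cons, List.prod_cons, mul_assoc]

theorem sgn_zpow (b : Bool) (n : ℤ) : sgn k b ^ n = sgn k (b && decide (n % 2 = 1)) := by
  cases b
  · simp [sgn]
  · rcases Int.even_or_odd n with h | h
    · have h2 : n % 2 = 0 := Int.even_iff.1 h
      simp [sgn, h.neg_one_zpow, h2]
    · have h2 : n % 2 = 1 := Int.odd_iff.1 h
      simp [sgn, h.neg_one_zpow, h2]

end Sgn

/-- bits of a number given by booleans -/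
def ofB (b : Fin 8 → Bool) : ℕ := ((List.finRange 8).map (fun i => (b i).toNat * 2 ^ (i : ℕ))).sum

theorem bits (b : Fin 8 → Bool) (i : Fin 8) : (ofB b).testBit i = b i := by
  have key : ∀ b0 b1 b2 b3 b4 b5 b6 b7 : Bool, ∀ i : Fin 8,
      (ofB ![b0, b1, b2, b3, b4, b5, b6, b7]).testBit i = (![b0, b1, b2, b3, b4, b5, b6, b7] : Fin 8 → Bool) i := by
    decide +kernel
  have h : b = ![b 0, b 1, b 2, b 3, b 4, b 5, b 6, b 7] := by
    funext j
    fin_cases j <;> rfl
  rw [h]
  exact key _ _ _ _ _ _ _ _ i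

theorem ofB_lt (b : Fin 8 → Bool) : ofB b < 256 := by
  have key : ∀ b0 b1 b2 b3 b4 b5 b6 b7 : Bool, ofB ![b0, b1, b2, b3, b4, b5, b6, b7] < 256 := by
    decide +kernel
  have h : b = ![b 0, b 1, b 2, b 3, b 4, b 5, b 6, b 7] := by
    funext j
    fin_cases j <;> rfl
  rw [h]
  exact key _ _ _ _ _ _ _ _

theorem mk2_eq (a : Fin 8 → ℤ) : mk2 (toL a) = ofB (fun i => decide (a i % 2 = 1)) := by
  unfold mk2 ofB
  have h1 : ∀ n : ℤ, (n % 2).toNat = (decide (n % 2 = 1)).toNat := by
    intro n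
    rcases Int.emod_two_eq_zero_or_one n with h | h <;> simp [h]
  have h2 : (List.range 8) = (List.finRange 8).map (fun i : Fin 8 => (i : ℕ)) := by decide
  rw [h2, List.map_map]
  congr 1
  refine List.map_congr_left fun i _ => ?_
  show ((toL a).getD (i : ℕ) 0 % 2).toNat * 2 ^ (i : ℕ) = _
  rw [getD_toL, h1]

section Main

variable {k : Type} [Field k] [CharP k 3]

/-- the value of a character of order 2 -/
theorem cX_parity {t : ↥(chevE8.group k)} {b : Fin 8 → Bool} (hb : ∀ i, cX tp8 t (sr i) = sgn k (b i)) (a : Fin 8 → ℤ) :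
    cX tp8 t a ≠ 1 ↔ pq (ofB b) (mk2 (toL a)) = true := by
  have h1 : cX tp8 t a = ∏ i, sgn k (b i && decide (a i % 2 = 1)) := by
    unfold cX
    refine Finset.prod_congr rfl fun i _ => ?_
    rw [← cX_sr, hb, sgn_zpow]
  have h2 : ∏ i, sgn k (b i && decide (a i % 2 = 1)) =
      sgn k (((List.range 8).map (fun i => ((mk2 (toL a)) &&& ofB b).testBit i)).foldl xor false) := by
    rw [foldl_sgn, show sgn k false = 1 from rfl, one_mul, List.map_map]
    have h3 : (List.range 8) = (List.finRange 8).map (fun i : Fin 8 => (i : ℕ)) := by decide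
    rw [h3, List.map_map, ← List.ofFn_eq_map, List.prod_ofFn]
    refine Finset.prod_congr rfl fun i _ => ?_
    show _ = sgn k (((mk2 (toL a)) &&& ofB b).testBit (i : ℕ))
    rw [Nat.testBit_land, mk2_eq, bits, bits, Bool.and_comm]
  rw [h1, h2, sgn_ne_one, pq, PT_bit _ (lt_of_le_of_lt (Nat.and_le_right) (ofB_lt b))]

theorem card_eq_count {n : ℕ} (P : ℕ → Prop) [DecidablePred P] :
    Nat.card {s : Fin n // P s} = (List.range n).countP (fun s => decide (P s)) := by
  have h1 : Nat.card {s : Fin n // P s} = Nat.card ↥((Finset.range n).filter P) :=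
    Nat.card_congr ⟨fun s => ⟨s.1, Finset.mem_filter.2 ⟨Finset.mem_range.2 s.1.2, s.2⟩⟩,
      fun s => ⟨⟨s.1, Finset.mem_range.1 (Finset.mem_filter.1 s.2).1⟩, (Finset.mem_filter.1 s.2).2⟩,
      fun _ => rfl, fun _ => rfl⟩
  rw [h1, Nat.card_eq_fintype_card, Fintype.card_coe, List.countP_eq_length_filter]
  rfl

theorem sq_eq_one_iff_cases {x : k} (h : x ^ 2 = 1) : x = 1 ∨ x = -1 := by
  have h1 : (x - 1) * (x + 1) = 0 := by
    rw [show (x - 1) * (x + 1) = x ^ 2 - 1 by ring, h, sub_self]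
  rcases mul_eq_zero.1 h1 with h2 | h2
  · exact Or.inl (sub_eq_zero.1 h2)
  · exact Or.inr (eq_neg_of_add_eq_zero_left h2)

theorem card_ne {t : ↥(chevE8.group k)} (ht : t ∈ TT chevE8 k) (h2 : t ^ 2 = 1) :
    Nat.card {s : Fin chevE8.nroots // cX tp8 t (vec chevE8 8 s) ≠ 1} ≠ 124 := by
  classical
  have hb : ∀ i, ∃ b : Bool, cX tp8 t (sr i) = sgn k b := by
    intro i
    have h1 := cX_pow tp8 ht 2 (sr i)
    rw [h2, cX_one] at h1
    rcases sq_eq_one_iff_cases h1.symm with h | h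
    · exact ⟨false, h⟩
    · exact ⟨true, h⟩
  choose b hb using hb
  have hn : chevE8.nroots = 240 := by decide +kernel
  rw [hn, card_eq_count (fun s => cX tp8 t (vec chevE8 8 s) ≠ 1)]
  have h3 : (List.range 240).countP (fun s => decide (cX tp8 t (vec chevE8 8 s) ≠ 1)) = ML.countP (pq (ofB b)) := by
    rw [← ML_eq, ← vec_tab, List.map_map, List.countP_map]
    refine List.countP_congr fun s _ => ?_
    rw [decide_eq_true_eq]
    exact cX_parity hb _
  rw [h3]
  exact count_ne _ (ofB_lt b)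

end Main

theorem finrank_Fx {K : Type} [Field K] (τ : ↥(chevE8.group K)) :
    Module.finrank K (Fx {τ}) + (((τ : GL chevE8.Idx K) : Matrix chevE8.Idx chevE8.Idx K) - 1).rank = 248 := by
  have h1 : Fx {τ} = LinearMap.ker (Matrix.mulVecLin (((τ : GL chevE8.Idx K) : Matrix chevE8.Idx chevE8.Idx K) - 1)) := by
    ext v
    rw [mem_Fx, LinearMap.mem_ker, Matrix.mulVecLin_apply, Matrix.sub_mulVec, Matrix.one_mulVec, sub_eq_zero]
    constructor
    · intro h
      exact h τ rfl
    · rintro h g rfl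
      exact h
  have h2 := LinearMap.finrank_range_add_finrank_ker
    (Matrix.mulVecLin (((τ : GL chevE8.Idx K) : Matrix chevE8.Idx chevE8.Idx K) - 1))
  have h3 : Module.finrank K (chevE8.Idx → K) = 248 := by
    rw [Module.finrank_fintype_fun_eq_card]
    decide +kernel
  rw [h3] at h2
  rw [h1, Matrix.rank, add_comm]
  exact h2

/-- E4 -/
theorem inv_ne {τ : G3} (h2 : τ * τ = 1) : Module.finrank (ZMod 3) (Fx {τ}) ≠ 124 := by
  intro h
  have h3 := finrank_Fx τ
  rw [h] at h3
  let k := AlgebraicClosure (ZMod 3)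
  let φ : ZMod 3 →+* k := algebraMap (ZMod 3) k
  have hk : BpExc.TorAll.HAlg 3 k := BpExc.TorAll.hAlg_of_isAlgebraic 3 k
  have hchar : CharP k 3 := inferInstance
  set τ' := emb tp8.inList φ τ with hτ'
  have h4 : τ' ^ 2 = 1 := by rw [hτ', ← map_pow, sq, h2, map_one]
  obtain ⟨g, hg⟩ := BpExc.TorAll.exists_conj_mem_TT tp8 3 hk Nat.prime_two (by norm_num) h4
  have h5 : (g * τ' * g⁻¹) ^ 2 = 1 := by rw [conj_pow, h4, mul_one, mul_inv_cancel]
  apply card_ne hg h5
  rw [← H83.RootCount.rank_sub_one tp8 hg]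
  have h6 : (((g * τ' * g⁻¹ : ↥(chevE8.group k)) : GL chevE8.Idx k) : Matrix chevE8.Idx chevE8.Idx k) - 1 =
      ((g : GL chevE8.Idx k) : Matrix chevE8.Idx chevE8.Idx k) *
        (((τ' : GL chevE8.Idx k) : Matrix chevE8.Idx chevE8.Idx k) - 1) *
        (((g⁻¹ : ↥(chevE8.group k)) : GL chevE8.Idx k) : Matrix chevE8.Idx chevE8.Idx k) := by
    rw [mul_sub, sub_mul, mul_one, ← Units.val_mul, ← Units.val_mul, ← Units.val_mul, ← Subgroup.coe_mul,
      ← Subgroup.coe_mul, ← Subgroup.coe_mul, mul_inv_cancel]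
    rfl
  rw [h6, Matrix.rank_mul_eq_left_of_isUnit_det, Matrix.rank_mul_eq_right_of_isUnit_det]
  · have h7 : ((τ' : GL chevE8.Idx k) : Matrix chevE8.Idx chevE8.Idx k) - 1 =
        (((τ : GL chevE8.Idx (ZMod 3)) : Matrix chevE8.Idx chevE8.Idx (ZMod 3)) - 1).map φ := by
      rw [hτ', coe_emb, coe_glMap, Matrix.map_sub φ (fun a b => map_sub φ a b), Matrix.map_one φ (map_zero φ) (map_one φ)]
    rw [h7, rank_map]
    omega
  · exact (Matrix.isUnit_iff_isUnit_det _).1 (Units.isUnit _)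
  · exact (Matrix.isUnit_iff_isUnit_det _).1 (Units.isUnit _)

end Cfsg.Agent.H969.L5
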